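import Cfsg.Agent.H936.KE.Pair
import Cfsg.Agent.H720.TwFr

/-!
# The eigenspaces of `w ρ` for `²E₆(q)`, order of `q` modulo `p` equal to 3, 4, 6 (S4822, KE7; helper936)

`ch` a chain for `w`, `Th` the matrix of `w ρ` (`ρ` the graph automorphism), `vA`, `vB` eigenvectors with eigenvalue `q`.
-/

set_option autoImplicit false
set_option linter.unusedSectionVars false
set_option maxRecDepth 100000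
set_option maxHeartbeats 4000000

namespace Cfsg.Agent.H936.KE.TE6

open Cfsg Cfsg.Lie Cfsg.Lie.ChevalleyDatum
open Cfsg.Agent.ChevalleyStructure.CoxeterGeomTypes Cfsg.Agent.Nodes.RGDChev Cfsg.Agent.H129.WData
  Cfsg.Agent.H720.TwFr

/-- the Cartan matrix -/
def Am : Mat 6 := ![![2, 0, -1, 0, 0, 0], ![0, 2, 0, -1, 0, 0], ![-1, 0, 2, -1, 0, 0], ![0, -1, -1, 2, -1, 0], ![0, 0, 0, -1, 2, -1], ![0, 0, 0, 0, -1, 2]]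


/-- the chain of the element of the Weyl group, order `3` -/
def ch3 : List (Fin 6 × Mat 6) := [
    (2, ![![-1, 0, 0, 0, 0, 0], ![0, -1, 0, -1, 0, 0], ![0, -1, -1, -1, -1, 0], ![0, 1, 0, 0, 0, 0], ![0, 0, 0, 1, 1, 0], ![1, 1, 2, 2, 1, 1]]),
    (3, ![![-1, 0, -1, 0, 0, 0], ![0, -1, -1, -1, 0, 0], ![0, -1, 0, -1, -1, 0], ![0, 1, 0, 0, 0, 0], ![0, 0, 1, 1, 1, 0], ![1, 1, 1, 2, 1, 1]]),
    (0, ![![-1, 0, -1, -1, 0, 0], ![0, -1, -1, -1, 0, 0], ![0, -1, 0, -1, -1, 0], ![0, 1, 0, 1, 0, 0], ![0, 0, 1, 1, 1, 0], ![1, 1, 1, 1, 1, 1]]),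
    (2, ![![0, 0, -1, -1, 0, 0], ![-1, -1, -1, -1, 0, 0], ![0, -1, 0, -1, -1, 0], ![0, 1, 0, 1, 0, 0], ![1, 0, 1, 1, 1, 0], ![0, 1, 1, 1, 1, 1]]),
    (1, ![![0, 0, 0, -1, 0, 0], ![-1, -1, -1, -1, 0, 0], ![0, -1, -1, -1, -1, 0], ![0, 1, 1, 1, 0, 0], ![1, 0, 1, 1, 1, 0], ![0, 1, 0, 1, 1, 1]]),
    (3, ![![0, -1, 0, -1, 0, 0], ![-1, 0, -1, -1, 0, 0], ![0, 0, -1, -1, -1, 0], ![0, 0, 1, 1, 0, 0], ![1, 1, 1, 1, 1, 0], ![0, 0, 0, 1, 1, 1]]),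
    (4, ![![0, -1, 0, 0, 0, 0], ![-1, 0, -1, 0, 0, 0], ![0, 0, -1, -1, -1, 0], ![0, 0, 1, 0, 0, 0], ![1, 1, 1, 2, 1, 0], ![0, 0, 0, 0, 1, 1]]),
    (3, ![![0, -1, 0, 0, 0, 0], ![-1, 0, -1, 0, 0, 0], ![0, 0, -1, -1, 0, 0], ![0, 0, 1, 0, 0, 0], ![1, 1, 1, 2, 1, 0], ![0, 0, 0, 0, 0, 1]]),
    (0, ![![0, -1, 0, -1, 0, 0], ![-1, 0, -1, -1, 0, 0], ![0, 0, -1, 0, 0, 0], ![0, 0, 1, 1, 0, 0], ![1, 1, 1, 1, 1, 0], ![0, 0, 0, 0, 0, 1]]),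
    (2, ![![0, -1, 0, -1, 0, 0], ![0, 0, -1, -1, 0, 0], ![-1, 0, -1, 0, 0, 0], ![1, 0, 1, 1, 0, 0], ![0, 1, 1, 1, 1, 0], ![0, 0, 0, 0, 0, 1]]),
    (1, ![![0, -1, -1, -1, 0, 0], ![0, 0, 0, -1, 0, 0], ![-1, 0, 0, 0, 0, 0], ![1, 0, 1, 1, 0, 0], ![0, 1, 0, 1, 1, 0], ![0, 0, 0, 0, 0, 1]]),
    (3, ![![0, 0, -1, -1, 0, 0], ![0, -1, 0, -1, 0, 0], ![-1, 0, 0, 0, 0, 0], ![1, 1, 1, 1, 0, 0], ![0, 0, 0, 1, 1, 0], ![0, 0, 0, 0, 0, 1]]),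
    (0, ![![0, 0, -1, 0, 0, 0], ![0, -1, 0, 0, 0, 0], ![-1, 0, 0, 0, 0, 0], ![1, 1, 1, 1, 0, 0], ![0, 0, 0, 0, 1, 0], ![0, 0, 0, 0, 0, 1]]),
    (2, ![![-1, 0, -1, 0, 0, 0], ![0, -1, 0, 0, 0, 0], ![1, 0, 0, 0, 0, 0], ![0, 1, 1, 1, 0, 0], ![0, 0, 0, 0, 1, 0], ![0, 0, 0, 0, 0, 1]]),
    (1, ![![-1, 0, 0, 0, 0, 0], ![0, -1, 0, 0, 0, 0], ![1, 0, 1, 0, 0, 0], ![0, 1, 0, 1, 0, 0], ![0, 0, 0, 0, 1, 0], ![0, 0, 0, 0, 0, 1]]),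
    (0, ![![-1, 0, 0, 0, 0, 0], ![0, 1, 0, 0, 0, 0], ![1, 0, 1, 0, 0, 0], ![0, 0, 0, 1, 0, 0], ![0, 0, 0, 0, 1, 0], ![0, 0, 0, 0, 0, 1]])]

/-- the matrix of the lattice automorphism -/
def Th3 : Mat 6 := ![![1, 1, 2, 2, 1, 1], ![0, -1, 0, -1, 0, 0], ![0, 0, 0, 1, 1, 0], ![0, 1, 0, 0, 0, 0], ![0, -1, -1, -1, -1, 0], ![-1, 0, 0, 0, 0, 0]]

/-- an eigenvector -/
def v3A : Fin 6 → ℤ × ℤ := ![(0, -1), (-1, -1), (1, 1), (0, 1), (-1, -1), (1, 0)]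

/-- an eigenvector -/
def v3B : Fin 6 → ℤ × ℤ := ![(0, -1), (0, -2), (2, 2), (-2, 0), (0, 0), (1, 0)]

/-- the chain of the element of the Weyl group, order `4` -/
def ch4 : List (Fin 6 × Mat 6) := [
    (0, ![![0, 0, -1, -1, -1, -1], ![-1, -1, -1, -2, -1, -1], ![-1, -1, -1, -1, -1, 0], ![1, 1, 1, 1, 1, 1], ![0, 0, 0, 1, 1, 0], ![0, 1, 1, 1, 0, 0]]),
    (2, ![![-1, 0, -1, -1, -1, -1], ![0, -1, -1, -2, -1, -1], ![0, -1, -1, -1, -1, 0], ![0, 1, 1, 1, 1, 1], ![0, 0, 0, 1, 1, 0], ![1, 1, 1, 1, 0, 0]]),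
    (3, ![![-1, 0, -1, -1, -1, -1], ![0, -1, -1, -2, -1, -1], ![0, -1, 0, -1, -1, 0], ![0, 1, 0, 1, 1, 1], ![0, 0, 1, 1, 1, 0], ![1, 1, 1, 1, 0, 0]]),
    (4, ![![-1, 0, -1, -1, -1, -1], ![0, -1, -1, -1, -1, -1], ![0, -1, 0, -1, -1, 0], ![0, 1, 0, 1, 1, 1], ![0, 0, 1, 1, 1, 0], ![1, 1, 1, 1, 0, 0]]),
    (5, ![![-1, 0, -1, -1, -1, -1], ![0, -1, -1, -1, -1, -1], ![0, -1, 0, -1, 0, 0], ![0, 1, 0, 1, 1, 1], ![0, 0, 1, 1, 0, 0], ![1, 1, 1, 1, 1, 0]]),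
    (0, ![![-1, 0, -1, -1, -1, 0], ![0, -1, -1, -1, -1, 0], ![0, -1, 0, -1, 0, 0], ![0, 1, 0, 1, 1, 0], ![0, 0, 1, 1, 0, 0], ![1, 1, 1, 1, 1, 1]]),
    (2, ![![0, 0, -1, -1, -1, 0], ![-1, -1, -1, -1, -1, 0], ![0, -1, 0, -1, 0, 0], ![0, 1, 0, 1, 1, 0], ![1, 0, 1, 1, 0, 0], ![0, 1, 1, 1, 1, 1]]),
    (1, ![![0, 0, 0, -1, -1, 0], ![-1, -1, -1, -1, -1, 0], ![0, -1, -1, -1, 0, 0], ![0, 1, 1, 1, 1, 0], ![1, 0, 1, 1, 0, 0], ![0, 1, 0, 1, 1, 1]]),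
    (3, ![![0, -1, 0, -1, -1, 0], ![-1, 0, -1, -1, -1, 0], ![0, 0, -1, -1, 0, 0], ![0, 0, 1, 1, 1, 0], ![1, 1, 1, 1, 0, 0], ![0, 0, 0, 1, 1, 1]]),
    (4, ![![0, -1, 0, -1, -1, 0], ![-1, 0, -1, -1, -1, 0], ![0, 0, -1, 0, 0, 0], ![0, 0, 1, 1, 1, 0], ![1, 1, 1, 1, 0, 0], ![0, 0, 0, 0, 1, 1]]),
    (0, ![![0, -1, 0, -1, 0, 0], ![-1, 0, -1, -1, 0, 0], ![0, 0, -1, 0, 0, 0], ![0, 0, 1, 1, 0, 0], ![1, 1, 1, 1, 1, 0], ![0, 0, 0, 0, 0, 1]]),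
    (2, ![![0, -1, 0, -1, 0, 0], ![0, 0, -1, -1, 0, 0], ![-1, 0, -1, 0, 0, 0], ![1, 0, 1, 1, 0, 0], ![0, 1, 1, 1, 1, 0], ![0, 0, 0, 0, 0, 1]]),
    (1, ![![0, -1, -1, -1, 0, 0], ![0, 0, 0, -1, 0, 0], ![-1, 0, 0, 0, 0, 0], ![1, 0, 1, 1, 0, 0], ![0, 1, 0, 1, 1, 0], ![0, 0, 0, 0, 0, 1]]),
    (3, ![![0, 0, -1, -1, 0, 0], ![0, -1, 0, -1, 0, 0], ![-1, 0, 0, 0, 0, 0], ![1, 1, 1, 1, 0, 0], ![0, 0, 0, 1, 1, 0], ![0, 0, 0, 0, 0, 1]]),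
    (0, ![![0, 0, -1, 0, 0, 0], ![0, -1, 0, 0, 0, 0], ![-1, 0, 0, 0, 0, 0], ![1, 1, 1, 1, 0, 0], ![0, 0, 0, 0, 1, 0], ![0, 0, 0, 0, 0, 1]]),
    (2, ![![-1, 0, -1, 0, 0, 0], ![0, -1, 0, 0, 0, 0], ![1, 0, 0, 0, 0, 0], ![0, 1, 1, 1, 0, 0], ![0, 0, 0, 0, 1, 0], ![0, 0, 0, 0, 0, 1]]),
    (1, ![![-1, 0, 0, 0, 0, 0], ![0, -1, 0, 0, 0, 0], ![1, 0, 1, 0, 0, 0], ![0, 1, 0, 1, 0, 0], ![0, 0, 0, 0, 1, 0], ![0, 0, 0, 0, 0, 1]]),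
    (0, ![![-1, 0, 0, 0, 0, 0], ![0, 1, 0, 0, 0, 0], ![1, 0, 1, 0, 0, 0], ![0, 0, 0, 1, 0, 0], ![0, 0, 0, 0, 1, 0], ![0, 0, 0, 0, 0, 1]])]

/-- the matrix of the lattice automorphism -/
def Th4 : Mat 6 := ![![0, 1, 1, 1, 0, 0], ![-1, -1, -1, -2, -1, -1], ![0, 0, 0, 1, 1, 0], ![1, 1, 1, 1, 1, 1], ![-1, -1, -1, -1, -1, 0], ![0, 0, -1, -1, -1, -1]]

/-- an eigenvector -/
def v4A : Fin 6 → ℤ × ℤ := ![(-1, 0), (1, -1), (0, 0), (-1, 0), (1, 0), (0, 0)]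

/-- an eigenvector -/
def v4B : Fin 6 → ℤ × ℤ := ![(-1, 0), (2, 0), (-1, 0), (-1, -1), (1, 0), (1, 0)]

/-- the chain of the element of the Weyl group, order `6` -/
def ch6 : List (Fin 6 × Mat 6) := [
    (0, ![![-1, -1, -1, -1, -1, 0], ![0, 0, -1, -1, -1, 0], ![0, 0, 0, -1, 0, 0], ![0, 0, 0, 1, 1, 0], ![0, 1, 1, 1, 0, 0], ![1, 0, 1, 1, 1, 1]]),
    (2, ![![0, -1, -1, -1, -1, 0], ![-1, 0, -1, -1, -1, 0], ![0, 0, 0, -1, 0, 0], ![0, 0, 0, 1, 1, 0], ![1, 1, 1, 1, 0, 0], ![0, 0, 1, 1, 1, 1]]),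
    (3, ![![0, -1, 0, -1, -1, 0], ![-1, 0, -1, -1, -1, 0], ![0, 0, -1, -1, 0, 0], ![0, 0, 1, 1, 1, 0], ![1, 1, 1, 1, 0, 0], ![0, 0, 0, 1, 1, 1]]),
    (4, ![![0, -1, 0, -1, -1, 0], ![-1, 0, -1, -1, -1, 0], ![0, 0, -1, 0, 0, 0], ![0, 0, 1, 1, 1, 0], ![1, 1, 1, 1, 0, 0], ![0, 0, 0, 0, 1, 1]]),
    (0, ![![0, -1, 0, -1, 0, 0], ![-1, 0, -1, -1, 0, 0], ![0, 0, -1, 0, 0, 0], ![0, 0, 1, 1, 0, 0], ![1, 1, 1, 1, 1, 0], ![0, 0, 0, 0, 0, 1]]),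
    (2, ![![0, -1, 0, -1, 0, 0], ![0, 0, -1, -1, 0, 0], ![-1, 0, -1, 0, 0, 0], ![1, 0, 1, 1, 0, 0], ![0, 1, 1, 1, 1, 0], ![0, 0, 0, 0, 0, 1]]),
    (1, ![![0, -1, -1, -1, 0, 0], ![0, 0, 0, -1, 0, 0], ![-1, 0, 0, 0, 0, 0], ![1, 0, 1, 1, 0, 0], ![0, 1, 0, 1, 1, 0], ![0, 0, 0, 0, 0, 1]]),
    (3, ![![0, 0, -1, -1, 0, 0], ![0, -1, 0, -1, 0, 0], ![-1, 0, 0, 0, 0, 0], ![1, 1, 1, 1, 0, 0], ![0, 0, 0, 1, 1, 0], ![0, 0, 0, 0, 0, 1]]),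
    (0, ![![0, 0, -1, 0, 0, 0], ![0, -1, 0, 0, 0, 0], ![-1, 0, 0, 0, 0, 0], ![1, 1, 1, 1, 0, 0], ![0, 0, 0, 0, 1, 0], ![0, 0, 0, 0, 0, 1]]),
    (2, ![![-1, 0, -1, 0, 0, 0], ![0, -1, 0, 0, 0, 0], ![1, 0, 0, 0, 0, 0], ![0, 1, 1, 1, 0, 0], ![0, 0, 0, 0, 1, 0], ![0, 0, 0, 0, 0, 1]]),
    (1, ![![-1, 0, 0, 0, 0, 0], ![0, -1, 0, 0, 0, 0], ![1, 0, 1, 0, 0, 0], ![0, 1, 0, 1, 0, 0], ![0, 0, 0, 0, 1, 0], ![0, 0, 0, 0, 0, 1]]),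
    (0, ![![-1, 0, 0, 0, 0, 0], ![0, 1, 0, 0, 0, 0], ![1, 0, 1, 0, 0, 0], ![0, 0, 0, 1, 0, 0], ![0, 0, 0, 0, 1, 0], ![0, 0, 0, 0, 0, 1]])]

/-- the matrix of the lattice automorphism -/
def Th6 : Mat 6 := ![![1, 0, 1, 1, 1, 1], ![0, 0, -1, -1, -1, 0], ![0, 1, 1, 1, 0, 0], ![0, 0, 0, 1, 1, 0], ![0, 0, 0, -1, 0, 0], ![-1, -1, -1, -1, -1, 0]]

/-- an eigenvector -/
def v6A : Fin 6 → ℤ × ℤ := ![(0, -1), (-1, 1), (1, 0), (0, 0), (0, 0), (0, 0)]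

/-- an eigenvector -/
def v6B : Fin 6 → ℤ × ℤ := ![(-1, 0), (0, 1), (0, 0), (0, -1), (1, 0), (0, 0)]


theorem hA : ∀ i j, Am i j = cartanOf chevE6 6 i j := by decide +kernel
theorem ch3_ok : ChainOK Am ch3 := by decide +kernel
theorem th3_eq : ∀ j, hd ch3 (rho6 j) = Th3 j := by decide +kernel
theorem e3A : ∀ j, plin v3A (Th3 j) = pmul (-1) (-1) (0, 1) (v3A j) := by decide +kernel
theorem m3A : Sml chevE6 6 (-1) (-1) v3A := by decide +kernel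
theorem e3B : ∀ j, plin v3B (Th3 j) = pmul (-1) (-1) (0, 1) (v3B j) := by decide +kernel
theorem m3B : Sml chevE6 6 (-1) (-1) v3B := by decide +kernel
theorem ch4_ok : ChainOK Am ch4 := by decide +kernel
theorem th4_eq : ∀ j, hd ch4 (rho6 j) = Th4 j := by decide +kernel
theorem e4A : ∀ j, plin v4A (Th4 j) = pmul (-1) 0 (0, 1) (v4A j) := by decide +kernel
theorem m4A : Sml chevE6 6 (-1) 0 v4A := by decide +kernel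
theorem e4B : ∀ j, plin v4B (Th4 j) = pmul (-1) 0 (0, 1) (v4B j) := by decide +kernel
theorem m4B : Sml chevE6 6 (-1) 0 v4B := by decide +kernel
theorem ch6_ok : ChainOK Am ch6 := by decide +kernel
theorem th6_eq : ∀ j, hd ch6 (rho6 j) = Th6 j := by decide +kernel
theorem e6A : ∀ j, plin v6A (Th6 j) = pmul (-1) 1 (0, 1) (v6A j) := by decide +kernel
theorem m6A : Sml chevE6 6 (-1) 1 v6A := by decide +kernel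
theorem e6B : ∀ j, plin v6B (Th6 j) = pmul (-1) 1 (0, 1) (v6B j) := by decide +kernel
theorem m6B : Sml chevE6 6 (-1) 1 v6B := by decide +kernel
theorem z3A : zc chevE6 6 v3A = 12 := by decide +kernel
theorem z3B : zc chevE6 6 v3B = 6 := by decide +kernel
theorem z4A : zc chevE6 6 v4A = 12 := by decide +kernel
theorem z4B : zc chevE6 6 v4B = 0 := by decide +kernel
theorem z6A : zc chevE6 6 v6A = 24 := by decide +kernel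
theorem z6B : zc chevE6 6 v6B = 12 := by decide +kernel
theorem s3A_6 : psum chevE6 6 (-1) (-1) v3A 6 = (-108, 0) := by decide +kernel
theorem s3B_6 : psum chevE6 6 (-1) (-1) v3B 6 = (864, 0) := by decide +kernel
theorem s4A_8 : psum chevE6 6 (-1) 0 v4A 8 = (1440, 0) := by decide +kernel
theorem s4A_12 : psum chevE6 6 (-1) 0 v4A 12 = (14880, 0) := by decide +kernel
theorem s6A_6 : psum chevE6 6 (-1) 1 v6A 6 = (48, 0) := by decide +kernel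
theorem s6B_6 : psum chevE6 6 (-1) 1 v6B 6 = (-108, 0) := by decide +kernel

theorem root_a : ∃ r : Fin chevE6.nroots, vec chevE6 6 r = ![0, 0, 0, 1, 1, 1] := by decide +kernel
theorem root_2 : ∃ r : Fin chevE6.nroots, vec chevE6 6 r = ![0, 0, 1, 0, 0, 0] := by decide +kernel
theorem root_4 : ∃ r : Fin chevE6.nroots, vec chevE6 6 r = ![0, 0, 0, 0, 1, 0] := by decide +kernel
theorem root_5 : ∃ r : Fin chevE6.nroots, vec chevE6 6 r = ![0, 0, 0, 0, 0, 1] := by decide +kernel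
theorem nr : chevE6.nroots = 72 := by decide +kernel

end Cfsg.Agent.H936.KE.TE6
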