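import Cfsg.Agent.H936.KE.Pair
import Cfsg.Agent.H765.KE.Model
import Cfsg.Agent.H508.KB.Defs

/-!
# Two lines in a torus: a bound for `k(B₀)` (S4822, KE; helper936)
-/

set_option autoImplicit false
set_option linter.unusedSectionVars false

namespace Cfsg.Agent.H936.KE

open CoxeterSystem Cfsg Cfsg.Lie Cfsg.Lie.ChevalleyDatum
open Cfsg.Agent.ChevalleyStructure Cfsg.Agent.ChevalleyStructure.Elts Cfsg.Agent.ChevalleyStructure.CoxeterGeom
  Cfsg.Agent.ChevalleyStructure.CoxeterGeomTypes Cfsg.Agent.ChevalleyStructure.NPerm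
open Cfsg.Agent.Tits.Roots Cfsg.Agent.Tits.Core Cfsg.Agent.Nodes Cfsg.Agent.Nodes.Reps Cfsg.Agent.Nodes.BNOf
  Cfsg.Agent.Nodes.RGDChev Cfsg.Agent.Nodes.Bruhat
open Cfsg.Agent.KFacts.RgdField Cfsg.Agent.KFacts.RgdChevCoord Cfsg.Agent.BpExc.TorCent Cfsg.Agent.BpExc.TorChev
open Cfsg.Agent.GpExc.Field Cfsg.Agent.BpExc.Tow Cfsg.Agent.BpExc.TowChev Cfsg.Agent.BpExc.Fr
  Cfsg.Agent.BpExc.LangFr Cfsg.Agent.H795.SetCent Cfsg.Agent.H795.Toral Cfsg.Agent.H795.Core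
  Cfsg.Agent.H795.RootConn Cfsg.Agent.H795.SetTor Cfsg.Agent.H129.TorusChar Cfsg.Agent.H129.TorusUntw
  Cfsg.Agent.H129.WData Cfsg.Agent.H795.Reduce Cfsg.Agent.H795.LangT
  Cfsg.Agent.BpExc Cfsg.Agent.H210.EL Cfsg.Agent.H440.TD4 Cfsg.Agent.H765.KE Cfsg.Agent.H508.KB

universe u v

/-- D8' -/
def KBTwo (p : ℕ) (M : Ideal AlgInt) : Prop :=
  ∀ (S : Type u) [Group S] [Finite S] (x x' : S) (k k' : ℕ) (_ : orderOf x = p ^ k) (_ : orderOf x' = p ^ k')
    (_ : k ≠ 0) (_ : k' ≠ 0) (e e' b b' : ℕ) (_ : ∀ (g : S) (i : ℕ), g * x * g⁻¹ = x ^ i → (i : ZMod p) ^ e = 1)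
    (_ : ∀ (g : S) (i : ℕ), g * x' * g⁻¹ = x' ^ i → (i : ZMod p) ^ e' = 1)
    (_ : ∀ (g : S) (i : ℕ), g * x * g⁻¹ ≠ x' ^ i)
    (_ : b ≤ blockRank p (principalBlock M ↥(Subgroup.centralizer ({x} : Set S))))
    (_ : b' ≤ blockRank p (principalBlock M ↥(Subgroup.centralizer ({x'} : Set S)))),
    (p - 1) / e * b + (p - 1) / e' * b' + blockRank p (principalBlock M S) ≤ kB M S

variable {D : ChevalleyDatum} {l : ℕ} {M : CoxeterMatrix (Fin l)} {hp : IsType D l M} {p Q : ℕ} [hpp : Fact p.Prime]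
  {g : (Fin l → ℤ) ≃+ (Fin l → ℤ)} {w : M.Group} {G : Type v} [Group G] [Finite G] {X : (Fin l → ZMod p) → G}

theorem zero_mem : (0 : Fin l → ZMod p) ∈ Lam hp p Q g w := by
  have h0 : ∀ y, lam (0 : Fin l → ZMod p) y = 0 := fun y => by unfold lam; simp
  intro x
  rw [h0, h0, mul_zero]

theorem X_zero (m : ModelS hp p Q g w X) : X 0 = 1 := by
  have h1 := m.add 0 zero_mem 0 zero_mem
  rw [add_zero] at h1
  exact mul_eq_left.1 h1.symm

theorem X_smul (m : ModelS hp p Q g w X) {c : Fin l → ZMod p} (hc : c ∈ Lam hp p Q g w) (n : ℕ) :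
    X ((n : ZMod p) • c) = X c ^ n := by
  induction n with
  | zero => rw [Nat.cast_zero, zero_smul, pow_zero, X_zero m]
  | succ n ih => rw [Nat.cast_succ, add_smul, one_smul, m.add _ (Lam.smul hp _ hc) _ hc, ih, pow_succ]

theorem order_X (m : ModelS hp p Q g w X) {c : Fin l → ZMod p} (hc : c ∈ Lam hp p Q g w) (h0 : c ≠ 0) :
    orderOf (X c) = p ^ 1 := by
  rw [pow_one]
  exact orderOf_eq_prime (m.pow c hc) fun h => h0 (m.inj c hc h)

theorem fus_X (m : ModelS hp p Q g w X) {c c' : Fin l → ZMod p} (hc : c ∈ Lam hp p Q g w)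
    (hc' : c' ∈ Lam hp p Q g w) {h : G} {i : ℕ} (hh : h * X c * h⁻¹ = X c' ^ i) :
    ∃ w' : M.Group, ∀ x, lam ((i : ZMod p) • c') (rep M.toCoxeterSystem hp.isCartan w' x) = lam c x := by
  rw [← X_smul m hc'] at hh
  exact m.fus c hc _ (Lam.smul hp _ hc') h hh

theorem evv_ne_zero {q : ZMod p} {s t : ℤ} (hq : q ^ 2 = s + t * q) (h11 : 11 ≤ p) {A : Fin l → ℤ × ℤ}
    (h : Sml D l s t A) (hz : zc D l A ≠ D.nroots) : evv q A ≠ 0 := by
  intro h0
  apply hz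
  rw [← sum_zero hq h11 h, h0]
  have h1 : ∀ y, lam (0 : Fin l → ZMod p) y = 0 := fun y => by unfold lam; simp
  simp [h1]

/-- **Two lines.** -/
theorem two_lines {Mi : Ideal AlgInt} (hM : IsPModular p Mi) (h11 : 11 ≤ p) (K : KBTwo.{v} p Mi)
    (m : ModelS hp p Q g w X) {Th : Mat l} {q : ZMod p} {s t : ℤ}
    (hTh : ∀ j, rep M.toCoxeterSystem hp.isCartan w (g (sr j)) = Th j) (hQ : (Q : ZMod p) = q)
    (hq : q ^ 2 = s + t * q) {A B : Fin l → ℤ × ℤ} (hA : ∀ j, plin A (Th j) = pmul s t (0, 1) (A j))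
    (hB : ∀ j, plin B (Th j) = pmul s t (0, 1) (B j)) (mA : Sml D l s t A) (mB : Sml D l s t B)
    (hz : zc D l A ≠ zc D l B) (zA : zc D l A ≠ D.nroots) (zB : zc D l B ≠ D.nroots) (e e' b b' : ℕ)
    (hfA : ∀ (i : ZMod p) (w' : M.Group), (∀ x, lam (i • evv q A) (rep M.toCoxeterSystem hp.isCartan w' x) =
      lam (evv q A) x) → i ^ e = 1)
    (hfB : ∀ (i : ZMod p) (w' : M.Group), (∀ x, lam (i • evv q B) (rep M.toCoxeterSystem hp.isCartan w' x) =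
      lam (evv q B) x) → i ^ e' = 1)
    (hb : b ≤ blockRank p (principalBlock Mi ↥(Subgroup.centralizer ({X (evv q A)} : Set G))))
    (hb' : b' ≤ blockRank p (principalBlock Mi ↥(Subgroup.centralizer ({X (evv q B)} : Set G)))) {r : Fin D.nroots}
    (hr : lam (evv q A) (vec D l r) ≠ 0) :
    (p - 1) / e * b + (p - 1) / e' * b' + 2 ≤ kB Mi G := by
  have hcA := mem_Lam hp hTh hQ hq hA
  have hcB := mem_Lam hp hTh hQ hq hB
  have nA := evv_ne_zero hq h11 mA zA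
  have nB := evv_ne_zero hq h11 mB zB
  have h2 := m.two_le_rank_top hM hcA (isRoot_vec hp M.toCoxeterSystem r.2) hr
  refine le_trans (Nat.add_le_add_left h2 _) (K G (X (evv q A)) (X (evv q B)) 1 1 (order_X m hcA nA)
    (order_X m hcB nB) one_ne_zero one_ne_zero e e' b b' ?_ ?_ ?_ hb hb')
  · intro x i hx
    obtain ⟨w', hw'⟩ := fus_X m hcA hcA hx
    exact hfA _ w' hw'
  · intro x i hx
    obtain ⟨w', hw'⟩ := fus_X m hcB hcB hx
    exact hfB _ w' hw'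
  · intro x i hx
    obtain ⟨w', hw'⟩ := fus_X m hcA hcB hx
    by_cases hi : (i : ZMod p) = 0
    · have h3 : X (evv q A) = 1 := by
        rw [← X_smul m hcB, hi, zero_smul, X_zero m] at hx
        exact conj_eq_one_iff.1 hx
      exact nA (m.inj _ hcA h3)
    · exact hz (zc_eq hp hq h11 mA mB hi hw')

end Cfsg.Agent.H936.KE
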