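import Cfsg.Agent.H440.TD4.Model

/-!
# Functionals with coefficients in `ℤ[q]`, `q ^ 2 = s + t q` (S4822, KE; helper936)

`ev q (u, v) = u + v q` modulo `p`, `evv q A` the functional on the root lattice with values `ev q (A i)` on the simple
roots. Power sums of the root values, and the number of the roots with value `0`.
-/

set_option autoImplicit false
set_option linter.unusedSectionVars false

namespace Cfsg.Agent.H936.KE

open CoxeterSystem Cfsg Cfsg.Lie Cfsg.Lie.ChevalleyDatum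
open Cfsg.Agent.ChevalleyStructure Cfsg.Agent.ChevalleyStructure.Elts Cfsg.Agent.ChevalleyStructure.CoxeterGeom
  Cfsg.Agent.ChevalleyStructure.CoxeterGeomTypes Cfsg.Agent.ChevalleyStructure.NPerm
open Cfsg.Agent.Tits.Roots Cfsg.Agent.Tits.Core Cfsg.Agent.Nodes Cfsg.Agent.Nodes.Reps Cfsg.Agent.Nodes.BNOf
  Cfsg.Agent.Nodes.RGDChev Cfsg.Agent.Nodes.Bruhat
open Cfsg.Agent.KFacts.RgdField Cfsg.Agent.KFacts.RgdChevCoord Cfsg.Agent.BpExc.TorCent Cfsg.Agent.BpExc.TorChev
open Cfsg.Agent.GpExc.Field Cfsg.Agent.BpExc.Tow Cfsg.Agent.BpExc.TowChev Cfsg.Agent.BpExc.Fr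
  Cfsg.Agent.BpExc.LangFr Cfsg.Agent.H795.SetCent Cfsg.Agent.H795.Toral Cfsg.Agent.H795.Core
  Cfsg.Agent.H795.RootConn Cfsg.Agent.H795.SetTor Cfsg.Agent.H129.TorusChar Cfsg.Agent.H129.TorusUntw
  Cfsg.Agent.H129.WData Cfsg.Agent.H795.Reduce Cfsg.Agent.H795.LangT
  Cfsg.Agent.BpExc Cfsg.Agent.H210.EL Cfsg.Agent.H440.TD4

/-- multiplication in `ℤ[q]`, `q ^ 2 = s + t q` -/
def pmul (s t : ℤ) (a b : ℤ × ℤ) : ℤ × ℤ := (a.1 * b.1 + s * (a.2 * b.2), a.1 * b.2 + a.2 * b.1 + t * (a.2 * b.2))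

/-- powers in `ℤ[q]` -/
def ppow (s t : ℤ) (a : ℤ × ℤ) : ℕ → ℤ × ℤ
  | 0 => (1, 0)
  | n + 1 => pmul s t (ppow s t a n) a

/-- the norm form -/
def pnorm (s t : ℤ) (a : ℤ × ℤ) : ℤ := a.1 * a.1 + t * (a.1 * a.2) - s * (a.2 * a.2)

/-- the value in `ZMod p` -/
def ev {p : ℕ} (q : ZMod p) (a : ℤ × ℤ) : ZMod p := (a.1 : ZMod p) + (a.2 : ZMod p) * q

/-- the functional with values `ev q (A i)` on the simple roots -/
def evv {l p : ℕ} (q : ZMod p) (A : Fin l → ℤ × ℤ) : Fin l → ZMod p := fun i => ev q (A i)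

/-- the value in `ℤ[q]` of the functional -/
def plin {l : ℕ} (A : Fin l → ℤ × ℤ) (x : Fin l → ℤ) : ℤ × ℤ := (∑ n, x n * (A n).1, ∑ n, x n * (A n).2)

section ring

variable {p : ℕ} {q : ZMod p} {s t : ℤ}

theorem ev_zero : ev q (0, 0) = 0 := by
  unfold ev
  push_cast
  ring

theorem ev_one : ev q (1, 0) = 1 := by
  unfold ev
  push_cast
  ring

theorem ev_int (n : ℤ) : ev q (n, 0) = n := by
  unfold ev
  push_cast
  ring

theorem ev_add (a b : ℤ × ℤ) : ev q (a + b) = ev q a + ev q b := by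
  unfold ev
  rw [Prod.fst_add, Prod.snd_add]
  push_cast
  ring

theorem ev_sum {ι : Type*} (S : Finset ι) (f : ι → ℤ × ℤ) : ev q (∑ i ∈ S, f i) = ∑ i ∈ S, ev q (f i) := by
  classical
  induction S using Finset.induction_on with
  | empty => rw [Finset.sum_empty, Finset.sum_empty]; exact ev_zero
  | insert i S hi ih => rw [Finset.sum_insert hi, Finset.sum_insert hi, ev_add, ih]

theorem ev_mul (hq : q ^ 2 = s + t * q) (a b : ℤ × ℤ) : ev q (pmul s t a b) = ev q a * ev q b := by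
  unfold ev pmul
  push_cast
  linear_combination (-(a.2 : ZMod p) * b.2) * hq

theorem ev_pow (hq : q ^ 2 = s + t * q) (a : ℤ × ℤ) (n : ℕ) : ev q (ppow s t a n) = ev q a ^ n := by
  induction n with
  | zero => rw [pow_zero]; exact ev_one
  | succ n ih =>
    rw [pow_succ, ← ih]
    exact ev_mul hq _ _

theorem ev_norm (hq : q ^ 2 = s + t * q) (a : ℤ × ℤ) :
    ev q a * ((a.1 : ZMod p) + a.2 * (t - q)) = ((pnorm s t a : ℤ) : ZMod p) := by
  unfold ev pnorm
  push_cast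
  linear_combination (-(a.2 : ZMod p) * a.2) * hq

/-- a value of small norm is not zero -/
theorem ev_ne_zero (hq : q ^ 2 = s + t * q) {a : ℤ × ℤ} (h1 : 1 ≤ pnorm s t a) (h2 : pnorm s t a < p) :
    ev q a ≠ 0 := by
  intro h
  have h3 := ev_norm hq a
  rw [h, zero_mul] at h3
  have h4 := (ZMod.intCast_zmod_eq_zero_iff_dvd _ _).1 h3.symm
  have h5 := Int.le_of_dvd (by omega) h4
  omega

theorem lam_evv {l : ℕ} (A : Fin l → ℤ × ℤ) (x : Fin l → ℤ) : lam (evv q A) x = ev q (plin A x) := by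
  unfold lam evv plin ev
  push_cast
  rw [Finset.sum_mul, ← Finset.sum_add_distrib]
  refine Finset.sum_congr rfl fun n _ => ?_
  ring

end ring

variable {D : ChevalleyDatum} {l : ℕ} {M : CoxeterMatrix (Fin l)} (hp : IsType D l M) {p Q : ℕ}

/-- a functional in the eigenspace -/
theorem mem_Lam {g : (Fin l → ℤ) ≃+ (Fin l → ℤ)} {w : M.Group} {Th : Mat l} {q : ZMod p} {s t : ℤ}
    (hTh : ∀ j, rep M.toCoxeterSystem hp.isCartan w (g (sr j)) = Th j) (hQ : (Q : ZMod p) = q)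
    (hq : q ^ 2 = s + t * q) {A : Fin l → ℤ × ℤ} (hA : ∀ j, plin A (Th j) = pmul s t (0, 1) (A j)) :
    evv q A ∈ Lam hp p Q g w := by
  intro x
  have h1 := ext_sr ((lamHom (evv q A)).comp
      ((rep M.toCoxeterSystem hp.isCartan w).toAddMonoidHom.comp g.toAddMonoidHom))
    ((AddMonoidHom.mulLeft (Q : ZMod p)).comp (lamHom (evv q A))) (fun j => by
      show lam (evv q A) (rep M.toCoxeterSystem hp.isCartan w (g (sr j))) = (Q : ZMod p) * lam (evv q A) (sr j)
      rw [hTh, lam_evv, hA, ev_mul hq, lam_sr, hQ]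
      congr 1
      unfold ev
      push_cast
      ring) x
  exact h1

/-- Conjugate functionals have the same root values. -/
theorem sum_roots {c c' : Fin l → ZMod p} {w' : M.Group}
    (h : ∀ x, lam c' (rep M.toCoxeterSystem hp.isCartan w' x) = lam c x) {N : Type*} [AddCommMonoid N]
    (F : ZMod p → N) : ∑ r : Fin D.nroots, F (lam c' (vec D l r)) = ∑ r : Fin D.nroots, F (lam c (vec D l r)) := by
  have h1 : ∀ r : Fin D.nroots, ∃ s : Fin D.nroots,
      vec D l s = rep M.toCoxeterSystem hp.isCartan w' (vec D l r) := by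
    intro r
    obtain ⟨s, hs, e⟩ := (isRoot_iff hp M.toCoxeterSystem _).1 ((isRoot_vec hp M.toCoxeterSystem r.2).act w')
    exact ⟨⟨s, hs⟩, e⟩
  choose f hf using h1
  have hinj : Function.Injective f := by
    intro r s hrs
    have h2 : rep M.toCoxeterSystem hp.isCartan w' (vec D l r) = rep M.toCoxeterSystem hp.isCartan w' (vec D l s) := by
      rw [← hf, ← hf, hrs]
    have h3 := congrArg (rep M.toCoxeterSystem hp.isCartan w'⁻¹) h2
    rw [← rep_mul_apply, ← rep_mul_apply, inv_mul_cancel, map_one, Module.End.one_apply, Module.End.one_apply] at h3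
    exact Fin.ext (vec_inj hp r.2 s.2 h3)
  have hbij := (Finite.injective_iff_bijective).1 hinj
  rw [← Equiv.sum_comp (Equiv.ofBijective f hbij)]
  refine Finset.sum_congr rfl fun r _ => ?_
  rw [← h (vec D l r), ← hf]
  rfl

/-- the power sum of the root values in `ℤ[q]` -/
def psum (D : ChevalleyDatum) (l : ℕ) (s t : ℤ) (A : Fin l → ℤ × ℤ) (k : ℕ) : ℤ × ℤ :=
  ∑ r : Fin D.nroots, ppow s t (plin A (vec D l r)) k

theorem sum_pow {q : ZMod p} {s t : ℤ} (hq : q ^ 2 = s + t * q) (A : Fin l → ℤ × ℤ) (k : ℕ) :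
    ∑ r : Fin D.nroots, lam (evv q A) (vec D l r) ^ k = ev q (psum D l s t A k) := by
  unfold psum
  rw [ev_sum]
  refine Finset.sum_congr rfl fun r _ => ?_
  rw [lam_evv, ev_pow hq]

theorem lam_mul {l : ℕ} (i : ZMod p) (a : Fin l → ZMod p) (x : Fin l → ℤ) :
    lam (i • a) x = i * lam a x := lam_smul' i a x

/-- the number of the roots with value zero in `ℤ[q]` -/
def zc (D : ChevalleyDatum) (l : ℕ) (A : Fin l → ℤ × ℤ) : ℕ :=
  ∑ r : Fin D.nroots, if plin A (vec D l r) = (0, 0) then 1 else 0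

/-- the nonzero root values have norms between `1` and `10` -/
def Sml (D : ChevalleyDatum) (l : ℕ) (s t : ℤ) (A : Fin l → ℤ × ℤ) : Prop :=
  ∀ r : Fin D.nroots, plin A (vec D l r) = (0, 0) ∨
    (1 ≤ pnorm s t (plin A (vec D l r)) ∧ pnorm s t (plin A (vec D l r)) ≤ 10)

instance (D : ChevalleyDatum) (l : ℕ) (s t : ℤ) (A : Fin l → ℤ × ℤ) : Decidable (Sml D l s t A) := by
  unfold Sml; infer_instance

theorem sum_zero {q : ZMod p} {s t : ℤ} (hq : q ^ 2 = s + t * q) (h11 : 11 ≤ p) {A : Fin l → ℤ × ℤ}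
    (h : Sml D l s t A) :
    ∑ r : Fin D.nroots, (if lam (evv q A) (vec D l r) = 0 then 1 else 0 : ℕ) = zc D l A := by
  unfold zc
  refine Finset.sum_congr rfl fun r _ => ?_
  rw [lam_evv]
  rcases h r with h1 | ⟨h1, h2⟩
  · rw [h1, ev_zero, if_pos rfl, if_pos rfl]
  · rw [if_neg (ev_ne_zero hq h1 (by omega)), if_neg]
    intro h3
    rw [h3] at h1
    unfold pnorm at h1
    simp at h1

/-- lines with different numbers of zeros are not conjugate -/
theorem zc_eq [hpp : Fact p.Prime] {q : ZMod p} {s t : ℤ} (hq : q ^ 2 = s + t * q) (h11 : 11 ≤ p) {A B : Fin l → ℤ × ℤ}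
    (hA : Sml D l s t A) (hB : Sml D l s t B) {i : ZMod p} (hi : i ≠ 0) {w' : M.Group}
    (h : ∀ x, lam (i • evv q B) (rep M.toCoxeterSystem hp.isCartan w' x) = lam (evv q A) x) :
    zc D l A = zc D l B := by
  rw [← sum_zero hq h11 hA, ← sum_zero hq h11 hB, ← sum_roots hp h (fun z => (if z = 0 then 1 else 0 : ℕ))]
  refine Finset.sum_congr rfl fun r _ => ?_
  rw [lam_mul]
  simp only [mul_eq_zero, hi, false_or]

/-- the power sum restricts the scalars -/
theorem pow_mul_sum {q : ZMod p} {s t : ℤ} (hq : q ^ 2 = s + t * q) {A : Fin l → ℤ × ℤ} {i : ZMod p} {w' : M.Group}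
    (h : ∀ x, lam (i • evv q A) (rep M.toCoxeterSystem hp.isCartan w' x) = lam (evv q A) x) (k : ℕ) :
    i ^ k * ev q (psum D l s t A k) = ev q (psum D l s t A k) := by
  have h1 := sum_roots hp h (fun z => z ^ k)
  rw [sum_pow hq] at h1
  refine Eq.trans ?_ h1
  rw [← sum_pow hq, Finset.mul_sum]
  refine Finset.sum_congr rfl fun r _ => ?_
  rw [lam_mul, mul_pow]

theorem pow_eq_one_of_psum [hpp : Fact p.Prime] {q : ZMod p} {s t : ℤ} (hq : q ^ 2 = s + t * q) {A : Fin l → ℤ × ℤ} {i : ZMod p} {w' : M.Group}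
    (h : ∀ x, lam (i • evv q A) (rep M.toCoxeterSystem hp.isCartan w' x) = lam (evv q A) x) (k : ℕ) {n : ℤ}
    (hn : psum D l s t A k = (n, 0)) (hnp : (n : ZMod p) ≠ 0) : i ^ k = 1 := by
  have h1 := pow_mul_sum hp hq h k
  rw [hn, ev_int] at h1
  exact mul_right_cancel₀ hnp (h1.trans (one_mul _).symm)

end Cfsg.Agent.H936.KE
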