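import Cfsg.Agent.H936.KE.TE6Data
import Cfsg.Agent.H936.KE.Lines
import Cfsg.Agent.H795.Tw
import Cfsg.Agent.S1093

/-!
# `²E₆(q)`, order of `q` modulo `p` equal to 3, 4, 6: `p + 3 ≤ 2 k(B₀)` (S4822, KE7; helper936)
-/

set_option autoImplicit false
set_option linter.unusedSectionVars false

namespace Cfsg.Agent.H936.KE.TE6

open CoxeterSystem Cfsg Cfsg.Lie Cfsg.Lie.ChevalleyDatum
open Cfsg.Agent.ChevalleyStructure Cfsg.Agent.ChevalleyStructure.Elts Cfsg.Agent.ChevalleyStructure.CoxeterGeom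
  Cfsg.Agent.ChevalleyStructure.CoxeterGeomTypes Cfsg.Agent.ChevalleyStructure.NPerm
open Cfsg.Agent.Tits.Roots Cfsg.Agent.Tits.Core Cfsg.Agent.Nodes Cfsg.Agent.Nodes.Reps Cfsg.Agent.Nodes.BNOf
  Cfsg.Agent.Nodes.RGDChev Cfsg.Agent.Nodes.Bruhat
open Cfsg.Agent.KFacts.RgdField Cfsg.Agent.KFacts.RgdChevCoord Cfsg.Agent.BpExc.TorCent Cfsg.Agent.BpExc.TorChev
open Cfsg.Agent.GpExc.Field Cfsg.Agent.BpExc.Tow Cfsg.Agent.BpExc.TowChev Cfsg.Agent.BpExc.Fr
  Cfsg.Agent.BpExc.LangFr Cfsg.Agent.H795.SetCent Cfsg.Agent.H795.Toral Cfsg.Agent.H795.Core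
  Cfsg.Agent.H795.RootConn Cfsg.Agent.H795.SetTor Cfsg.Agent.H129.TorusChar Cfsg.Agent.H129.TorusUntw
  Cfsg.Agent.H129.WData Cfsg.Agent.H795.Reduce Cfsg.Agent.H795.LangT
  Cfsg.Agent.BpExc Cfsg.Agent.H210.EL Cfsg.Agent.H440.TD4 Cfsg.Agent.H765.KE Cfsg.Agent.H508.KB Cfsg.Agent.H720.TwFr Cfsg.Agent.H795.Tw

universe u v

/-- transport of `Setup` -/
theorem setup_comp {D : ChevalleyDatum} {l : ℕ} {M : CoxeterMatrix (Fin l)} {hp : IsType D l M} {k : Type v} [Field k]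
    {p r e : ℕ} [Fact r.Prime] [CharP k r] {G : Type*} [Group G] {S : Type*} [Group S] {f : G →* ↥(D.group k)}
    {σ : MulAut ↥(D.group k)} {g : (Fin l → ℤ) ≃+ (Fin l → ℤ)} (h : Setup hp p r e f σ g) (φ : S ≃* G) :
    Setup hp p r e (f.comp φ.toMonoidHom) σ g where
  inj := h.inj.comp φ.injective
  e_pos := h.e_pos
  frob := h.frob
  fr := h.fr
  fix x := h.fix _
  norm y hy x := by
    obtain ⟨x', hx'⟩ := h.norm y hy (φ x)
    exact ⟨φ.symm x', (congrArg f (φ.apply_symm_apply x')).trans hx'⟩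
  p_mem y hy hj := by
    obtain ⟨x, hx⟩ := h.p_mem y hy hj
    exact ⟨φ.symm x, by rw [← hx]; exact congrArg f (φ.apply_symm_apply x)⟩
  r_mem y hy hj := by
    obtain ⟨x, hx⟩ := h.r_mem y hy hj
    exact ⟨φ.symm x, by rw [← hx]; exact congrArg f (φ.apply_symm_apply x)⟩
  fin := h.fin

theorem permE_sr (ρ : Equiv.Perm (Fin 6)) (j : Fin 6) : permE ρ (sr j) = sr (ρ j) := by
  funext i
  show sr j (ρ.symm i) = sr (ρ j) i
  by_cases h : i = ρ j
  · rw [h, ρ.symm_apply_apply, sr_self, sr_self]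
  · rw [sr_ne h, sr_ne]
    intro h1
    exact h (by rw [← h1, ρ.apply_symm_apply])

theorem lin_of {L : List (Fin 6 × Mat 6)} (hL : ChainOK Am L) {Th : Mat 6} (hT : ∀ j, hd L (rho6 j) = Th j)
    (j : Fin 6) : rep CoxeterMatrix.E₆.toCoxeterSystem hp6.isCartan
      (CoxeterMatrix.E₆.toCoxeterSystem.wordProd (L.map Prod.fst)) (permE rho6 (sr j)) = Th j := by
  rw [permE_sr, chain_rep hp6 _ hA hL, hT]

section

variable {p : ℕ} [hpp : Fact p.Prime]

theorem not_dvd_thirty (h11 : 11 ≤ p) : ¬ p ∣ 30 := by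
  intro h
  have h1 := Nat.le_of_dvd (by norm_num) h
  have h2 := hpp.out
  interval_cases p <;> first | exact absurd h (by decide) | exact absurd h2 (by norm_num)

theorem int_ne {n : ℤ} (k : ℕ) (hn : n.natAbs ∣ 30 ^ k) (h11 : 11 ≤ p) : (n : ZMod p) ≠ 0 := by
  intro h1
  have h2 := (ZMod.intCast_zmod_eq_zero_iff_dvd _ _).1 h1
  exact not_dvd_thirty h11 (hpp.out.dvd_of_dvd_pow ((Int.natCast_dvd.1 h2).trans hn))

theorem int_ne31 {n : ℤ} (k : ℕ) (hn : n.natAbs ∣ 30 ^ k * 31) (h11 : 11 ≤ p) (h4 : 4 ∣ p - 1) :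
    (n : ZMod p) ≠ 0 := by
  intro h1
  have h2 := (ZMod.intCast_zmod_eq_zero_iff_dvd _ _).1 h1
  rcases (Nat.Prime.dvd_mul hpp.out).1 ((Int.natCast_dvd.1 h2).trans hn) with h | h
  · exact not_dvd_thirty h11 (hpp.out.dvd_of_dvd_pow h)
  · rw [(Nat.prime_dvd_prime_iff_eq hpp.out (by norm_num)).1 h] at h4
    omega

theorem not_dvd_W (h11 : 11 ≤ p) : ¬ p ∣ Nat.card CoxeterMatrix.E₆.Group := by
  have h0 : Nat.card CoxeterMatrix.E₆.Group = 51840 :=
    Cfsg.Agent.S1093.result (⟨6, CoxeterMatrix.E₆⟩, 51840) (by simp)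
  rw [h0]
  intro h
  exact not_dvd_thirty h11 (hpp.out.dvd_of_dvd_pow (h.trans (by decide : 51840 ∣ 30 ^ 7)))

/-- the relations for the orders -/
theorem rel_of_order {x : ZMod p} (h : orderOf x = 3) : x ^ 2 = ((-1 : ℤ) : ZMod p) + ((-1 : ℤ) : ZMod p) * x := by
  have h1 : x ^ 3 = 1 := by rw [← h]; exact pow_orderOf_eq_one x
  have h2 : x - 1 ≠ 0 := by
    intro h3
    rw [sub_eq_zero.1 h3, orderOf_one] at h
    omega
  have h3 : (x - 1) * (x ^ 2 + x + 1) = 0 := by linear_combination h1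
  have h4 := (mul_eq_zero.1 h3).resolve_left h2
  push_cast
  linear_combination h4

theorem rel_of_order4 {x : ZMod p} (h : orderOf x = 4) : x ^ 2 = ((-1 : ℤ) : ZMod p) + ((0 : ℤ) : ZMod p) * x := by
  have h1 : x ^ 4 = 1 := by rw [← h]; exact pow_orderOf_eq_one x
  have h2 : x ^ 2 - 1 ≠ 0 := by
    intro h3
    have h5 := orderOf_dvd_of_pow_eq_one (sub_eq_zero.1 h3)
    rw [h] at h5
    omega
  have h3 : (x ^ 2 - 1) * (x ^ 2 + 1) = 0 := by linear_combination h1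
  have h4 := (mul_eq_zero.1 h3).resolve_left h2
  push_cast
  linear_combination h4

theorem rel_of_order6 {x : ZMod p} (h : orderOf x = 6) : x ^ 2 = ((-1 : ℤ) : ZMod p) + ((1 : ℤ) : ZMod p) * x := by
  have h1 : x ^ 6 = 1 := by rw [← h]; exact pow_orderOf_eq_one x
  have h2 : x ^ 2 - 1 ≠ 0 := by
    intro h3
    have h5 := orderOf_dvd_of_pow_eq_one (sub_eq_zero.1 h3)
    rw [h] at h5
    omega
  have h2' : x ^ 3 - 1 ≠ 0 := by
    intro h3
    have h5 := orderOf_dvd_of_pow_eq_one (sub_eq_zero.1 h3)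
    rw [h] at h5
    omega
  have h3 : (x ^ 3 - 1) * ((x + 1) * (x ^ 2 - x + 1)) = 0 := by linear_combination h1
  have h4 := (mul_eq_zero.1 h3).resolve_left h2'
  have h6 : x + 1 ≠ 0 := by
    intro h7
    apply h2
    linear_combination (x - 1) * h7
  have h5 := (mul_eq_zero.1 h4).resolve_left h6
  push_cast
  linear_combination h5

theorem dvd_of_order {x : ZMod p} {d : ℕ} (h : orderOf x = d) (hd : d ≠ 0) : d ∣ p - 1 := by
  rw [← h]
  apply ZMod.orderOf_dvd_card_sub_one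
  rintro rfl
  apply hd
  rw [← h, orderOf_zero]

end

section main

variable {p : ℕ} [hpp : Fact p.Prime] {Mi : Ideal AlgInt} {S : Type v} [Group S] [Finite S] {F : Type u} [Field F]
  [Fintype F] {q : ℕ}

/-- the model -/
theorem exists_X (h11 : 11 ≤ p) (hpF : (p : F) ≠ 0) (hq : IsPrimePow q) (hK : Fintype.card F = q ^ 2)
    (e : S ≃* ↥(twistedE6 F q)) (w : CoxeterMatrix.E₆.Group) :
    ∃ X : (Fin 6 → ZMod p) → S, ModelS hp6 p q (permE rho6) w X := by
  obtain ⟨r, n, hr, hrF, hrk, hn0, hn, hk⟩ := exists_closure_q two_ne_zero hq hK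
  have hpr : p ≠ r := by
    rintro rfl
    exact hpF (CharP.cast_eq_zero F p)
  have h := setup_comp (setup_six (algebraMap F (AlgebraicClosure F)) r hk hn0 hn hK (p := p) (by omega)) e
  obtain ⟨X, m⟩ := exists_modelS hp6 hk (by omega) hpr
    (not_dvd_W h11) invC_E6 (by norm_num) h w
  rw [← hn] at m
  exact ⟨X, m⟩

variable (hM : IsPModular p Mi) (h11 : 11 ≤ p) (K : KBTwo.{v} p Mi) (hpF : (p : F) ≠ 0) (hq : IsPrimePow q)
  (hK : Fintype.card F = q ^ 2) (e : S ≃* ↥(twistedE6 F q))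

include hM h11 K hpF hq hK e in
theorem kb_three (hd : orderOf (q : ZMod p) = 3) : p + 3 ≤ 2 * kB Mi S := by
  obtain ⟨X, m⟩ := exists_X h11 hpF hq hK e (CoxeterMatrix.E₆.toCoxeterSystem.wordProd (ch3.map Prod.fst))
  have hr := rel_of_order hd
  have hTh := lin_of ch3_ok th3_eq
  have hcA := mem_Lam hp6 hTh rfl hr e3A
  have hcB := mem_Lam hp6 hTh rfl hr e3B
  obtain ⟨ra, hra⟩ := root_a
  obtain ⟨rb, hrb⟩ := root_4
  have hB1 : lam (evv (q : ZMod p) v3B) (vec chevE6 6 ra) ≠ 0 := by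
    rw [lam_evv, hra]
    exact ev_ne_zero hr (by decide +kernel) (lt_of_eq_of_lt (b := 1) (by decide +kernel) (by omega))
  have hA1 : lam (evv (q : ZMod p) v3A) (vec chevE6 6 rb) ≠ 0 := by
    rw [lam_evv, hrb]
    exact ev_ne_zero hr (by decide +kernel) (lt_of_eq_of_lt (b := 1) (by decide +kernel) (by omega))
  have hA0 : lam (evv (q : ZMod p) v3A) (vec chevE6 6 ra) = 0 := by
    rw [lam_evv, hra, show plin v3A ![0, 0, 0, 1, 1, 1] = (0, 0) by decide +kernel, ev_zero]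
  have hB0 : lam (evv (q : ZMod p) v3B) (vec chevE6 6 rb) = 0 := by
    rw [lam_evv, hrb, show plin v3B ![0, 0, 0, 0, 1, 0] = (0, 0) by decide +kernel, ev_zero]
  have h1 := two_lines hM h11 K m hTh rfl hr e3A e3B m3A m3B (by rw [z3A, z3B]; decide) (by rw [z3A, nr]; decide)
    (by rw [z3B, nr]; decide) 6 6 2 2
    (fun i w' h => pow_eq_one_of_psum hp6 hr h 6 s3A_6 (int_ne 3 (by decide) h11))
    (fun i w' h => pow_eq_one_of_psum hp6 hr h 6 s3B_6 (int_ne 5 (by decide) h11))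
    (m.two_le_rank hM hcA hcB (isRoot_vec hp6 _ ra.2) hA0 hB1)
    (m.two_le_rank hM hcB hcA (isRoot_vec hp6 _ rb.2) hB0 hA1) hA1
  have h3 := dvd_of_order hd (by norm_num)
  have h2 : 2 ∣ p - 1 := (hpp.out.even_sub_one (by omega)).two_dvd
  omega

include hM h11 K hpF hq hK e in
theorem kb_six (hd : orderOf (q : ZMod p) = 6) : p + 3 ≤ 2 * kB Mi S := by
  obtain ⟨X, m⟩ := exists_X h11 hpF hq hK e (CoxeterMatrix.E₆.toCoxeterSystem.wordProd (ch6.map Prod.fst))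
  have hr := rel_of_order6 hd
  have hTh := lin_of ch6_ok th6_eq
  have hcA := mem_Lam hp6 hTh rfl hr e6A
  have hcB := mem_Lam hp6 hTh rfl hr e6B
  obtain ⟨ra, hra⟩ := root_4
  obtain ⟨rb, hrb⟩ := root_2
  have hB1 : lam (evv (q : ZMod p) v6B) (vec chevE6 6 ra) ≠ 0 := by
    rw [lam_evv, hra]
    exact ev_ne_zero hr (by decide +kernel) (lt_of_eq_of_lt (b := 1) (by decide +kernel) (by omega))
  have hA1 : lam (evv (q : ZMod p) v6A) (vec chevE6 6 rb) ≠ 0 := by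
    rw [lam_evv, hrb]
    exact ev_ne_zero hr (by decide +kernel) (lt_of_eq_of_lt (b := 1) (by decide +kernel) (by omega))
  have hA0 : lam (evv (q : ZMod p) v6A) (vec chevE6 6 ra) = 0 := by
    rw [lam_evv, hra, show plin v6A ![0, 0, 0, 0, 1, 0] = (0, 0) by decide +kernel, ev_zero]
  have hB0 : lam (evv (q : ZMod p) v6B) (vec chevE6 6 rb) = 0 := by
    rw [lam_evv, hrb, show plin v6B ![0, 0, 1, 0, 0, 0] = (0, 0) by decide +kernel, ev_zero]
  have h1 := two_lines hM h11 K m hTh rfl hr e6A e6B m6A m6B (by rw [z6A, z6B]; decide) (by rw [z6A, nr]; decide)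
    (by rw [z6B, nr]; decide) 6 6 2 2
    (fun i w' h => pow_eq_one_of_psum hp6 hr h 6 s6A_6 (int_ne 4 (by decide) h11))
    (fun i w' h => pow_eq_one_of_psum hp6 hr h 6 s6B_6 (int_ne 3 (by decide) h11))
    (m.two_le_rank hM hcA hcB (isRoot_vec hp6 _ ra.2) hA0 hB1)
    (m.two_le_rank hM hcB hcA (isRoot_vec hp6 _ rb.2) hB0 hA1) hA1
  have h3 := dvd_of_order hd (by norm_num)
  omega

include hM h11 K hpF hq hK e in
theorem kb_four (hd : orderOf (q : ZMod p) = 4) : p + 3 ≤ 2 * kB Mi S := by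
  obtain ⟨X, m⟩ := exists_X h11 hpF hq hK e (CoxeterMatrix.E₆.toCoxeterSystem.wordProd (ch4.map Prod.fst))
  have hr := rel_of_order4 hd
  have h3 := dvd_of_order hd (by norm_num)
  have hTh := lin_of ch4_ok th4_eq
  have hcA := mem_Lam hp6 hTh rfl hr e4A
  have hcB := mem_Lam hp6 hTh rfl hr e4B
  obtain ⟨ra, hra⟩ := root_5
  obtain ⟨rb, hrb⟩ := root_4
  have hB1 : lam (evv (q : ZMod p) v4B) (vec chevE6 6 ra) ≠ 0 := by
    rw [lam_evv, hra]
    exact ev_ne_zero hr (by decide +kernel) (lt_of_eq_of_lt (b := 1) (by decide +kernel) (by omega))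
  have hA1 : lam (evv (q : ZMod p) v4A) (vec chevE6 6 rb) ≠ 0 := by
    rw [lam_evv, hrb]
    exact ev_ne_zero hr (by decide +kernel) (lt_of_eq_of_lt (b := 1) (by decide +kernel) (by omega))
  have hA0 : lam (evv (q : ZMod p) v4A) (vec chevE6 6 ra) = 0 := by
    rw [lam_evv, hra, show plin v4A ![0, 0, 0, 0, 0, 1] = (0, 0) by decide +kernel, ev_zero]
  have h1 := two_lines hM h11 K m hTh rfl hr e4A e4B m4A m4B (by rw [z4A, z4B]; decide) (by rw [z4A, nr]; decide)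
    (by rw [z4B, nr]; decide) 4 0 2 0
    (fun i w' h => by
      have h5 := pow_eq_one_of_psum hp6 hr h 8 s4A_8 (int_ne 5 (by decide) h11)
      have h6 := pow_eq_one_of_psum hp6 hr h 12 s4A_12 (int_ne31 5 (by decide) h11 h3)
      rw [show 12 = 8 + 4 from rfl, pow_add, h5, one_mul] at h6
      exact h6)
    (fun i w' h => pow_zero _)
    (m.two_le_rank hM hcA hcB (isRoot_vec hp6 _ ra.2) hA0 hB1) (Nat.zero_le _) hA1
  omega

include hM h11 K hpF hq hK e in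
/-- **`p + 3 ≤ 2 k(B₀)` for `²E₆(q)`, order of `q` modulo `p` equal to 3, 4, 6.** -/
theorem kb_tw (hd : orderOf (q : ZMod p) = 3 ∨ orderOf (q : ZMod p) = 4 ∨ orderOf (q : ZMod p) = 6) :
    p + 3 ≤ 2 * kB Mi S := by
  rcases hd with hd | hd | hd
  · exact kb_three hM h11 K hpF hq hK e hd
  · exact kb_four hM h11 K hpF hq hK e hd
  · exact kb_six hM h11 K hpF hq hK e hd

end main

end Cfsg.Agent.H936.KE.TE6
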